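import Cfsg.Agent.Dce.Defs

set_option autoImplicit false
set_option maxRecDepth 1000000
set_option maxHeartbeats 0
set_option Elab.async false

namespace CF.Comp.HN

noncomputable def rels : List (List Nat) := [[(nat_lit 3), (nat_lit 3), (nat_lit 3), (nat_lit 3), (nat_lit 3), (nat_lit 3)],
  [(nat_lit 1), (nat_lit 1), (nat_lit 3), (nat_lit 1), (nat_lit 1), (nat_lit 4)],
  [(nat_lit 2), (nat_lit 4), (nat_lit 1), (nat_lit 3), (nat_lit 2), (nat_lit 4), (nat_lit 1), (nat_lit 3), (nat_lit 2), (nat_lit 4), (nat_lit 1), (nat_lit 3)],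
  [(nat_lit 2), (nat_lit 3), (nat_lit 3), (nat_lit 1), (nat_lit 3), (nat_lit 3), (nat_lit 3), (nat_lit 2), (nat_lit 3), (nat_lit 3), (nat_lit 1), (nat_lit 3), (nat_lit 3), (nat_lit 3), (nat_lit 2), (nat_lit 3), (nat_lit 3), (nat_lit 1), (nat_lit 3), (nat_lit 3), (nat_lit 3)],
  [(nat_lit 1), (nat_lit 3), (nat_lit 1), (nat_lit 3), (nat_lit 1), (nat_lit 3), (nat_lit 1), (nat_lit 3), (nat_lit 1), (nat_lit 3), (nat_lit 1), (nat_lit 3), (nat_lit 1), (nat_lit 3), (nat_lit 1), (nat_lit 3)],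
  [(nat_lit 1), (nat_lit 3), (nat_lit 1), (nat_lit 3), (nat_lit 3), (nat_lit 3), (nat_lit 1), (nat_lit 3), (nat_lit 1), (nat_lit 3), (nat_lit 3), (nat_lit 3), (nat_lit 1), (nat_lit 3), (nat_lit 1), (nat_lit 3), (nat_lit 3), (nat_lit 3), (nat_lit 1), (nat_lit 3), (nat_lit 1), (nat_lit 3), (nat_lit 3), (nat_lit 3)],
  [(nat_lit 5), (nat_lit 5)],
  [(nat_lit 5), (nat_lit 1), (nat_lit 5), (nat_lit 1)],
  [(nat_lit 6), (nat_lit 3), (nat_lit 2), (nat_lit 4), (nat_lit 4), (nat_lit 2), (nat_lit 4), (nat_lit 2), (nat_lit 4), (nat_lit 5), (nat_lit 3), (nat_lit 1), (nat_lit 3), (nat_lit 1), (nat_lit 3), (nat_lit 3), (nat_lit 1), (nat_lit 4), (nat_lit 2), (nat_lit 2)],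
  [(nat_lit 5), (nat_lit 4), (nat_lit 2), (nat_lit 4), (nat_lit 2), (nat_lit 4), (nat_lit 4), (nat_lit 4), (nat_lit 5), (nat_lit 3), (nat_lit 3), (nat_lit 3), (nat_lit 1), (nat_lit 3), (nat_lit 1), (nat_lit 3), (nat_lit 1), (nat_lit 4), (nat_lit 2), (nat_lit 4), (nat_lit 2), (nat_lit 4), (nat_lit 4), (nat_lit 4), (nat_lit 5), (nat_lit 3), (nat_lit 3), (nat_lit 3), (nat_lit 1), (nat_lit 3), (nat_lit 1), (nat_lit 3), (nat_lit 1), (nat_lit 4), (nat_lit 2), (nat_lit 4), (nat_lit 2), (nat_lit 4), (nat_lit 4), (nat_lit 4), (nat_lit 5), (nat_lit 3), (nat_lit 3), (nat_lit 3), (nat_lit 1), (nat_lit 3), (nat_lit 1), (nat_lit 3), (nat_lit 1)],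
  [(nat_lit 7), (nat_lit 7), (nat_lit 7), (nat_lit 7), (nat_lit 7)],
  [(nat_lit 2), (nat_lit 7), (nat_lit 1), (nat_lit 7), (nat_lit 7)],
  [(nat_lit 8), (nat_lit 4), (nat_lit 7), (nat_lit 3)],
  [(nat_lit 5), (nat_lit 7), (nat_lit 5), (nat_lit 7), (nat_lit 5), (nat_lit 7)]]
noncomputable def Rxy : List (List Nat) := [[(nat_lit 3), (nat_lit 3), (nat_lit 3), (nat_lit 3), (nat_lit 3), (nat_lit 3)],
  [(nat_lit 1), (nat_lit 1), (nat_lit 3), (nat_lit 1), (nat_lit 1), (nat_lit 4)],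
  [(nat_lit 2), (nat_lit 4), (nat_lit 1), (nat_lit 3), (nat_lit 2), (nat_lit 4), (nat_lit 1), (nat_lit 3), (nat_lit 2), (nat_lit 4), (nat_lit 1), (nat_lit 3)],
  [(nat_lit 2), (nat_lit 3), (nat_lit 3), (nat_lit 1), (nat_lit 3), (nat_lit 3), (nat_lit 3), (nat_lit 2), (nat_lit 3), (nat_lit 3), (nat_lit 1), (nat_lit 3), (nat_lit 3), (nat_lit 3), (nat_lit 2), (nat_lit 3), (nat_lit 3), (nat_lit 1), (nat_lit 3), (nat_lit 3), (nat_lit 3)],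
  [(nat_lit 1), (nat_lit 3), (nat_lit 1), (nat_lit 3), (nat_lit 1), (nat_lit 3), (nat_lit 1), (nat_lit 3), (nat_lit 1), (nat_lit 3), (nat_lit 1), (nat_lit 3), (nat_lit 1), (nat_lit 3), (nat_lit 1), (nat_lit 3)],
  [(nat_lit 1), (nat_lit 3), (nat_lit 1), (nat_lit 3), (nat_lit 3), (nat_lit 3), (nat_lit 1), (nat_lit 3), (nat_lit 1), (nat_lit 3), (nat_lit 3), (nat_lit 3), (nat_lit 1), (nat_lit 3), (nat_lit 1), (nat_lit 3), (nat_lit 3), (nat_lit 3), (nat_lit 1), (nat_lit 3), (nat_lit 1), (nat_lit 3), (nat_lit 3), (nat_lit 3)]]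
noncomputable def R0 : List (List Nat) := [[(nat_lit 3), (nat_lit 3), (nat_lit 3), (nat_lit 3), (nat_lit 3), (nat_lit 3)],
  [(nat_lit 1), (nat_lit 1), (nat_lit 3), (nat_lit 1), (nat_lit 1), (nat_lit 4)],
  [(nat_lit 2), (nat_lit 4), (nat_lit 1), (nat_lit 3), (nat_lit 2), (nat_lit 4), (nat_lit 1), (nat_lit 3), (nat_lit 2), (nat_lit 4), (nat_lit 1), (nat_lit 3)],
  [(nat_lit 2), (nat_lit 3), (nat_lit 3), (nat_lit 1), (nat_lit 3), (nat_lit 3), (nat_lit 3), (nat_lit 2), (nat_lit 3), (nat_lit 3), (nat_lit 1), (nat_lit 3), (nat_lit 3), (nat_lit 3), (nat_lit 2), (nat_lit 3), (nat_lit 3), (nat_lit 1), (nat_lit 3), (nat_lit 3), (nat_lit 3)],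
  [(nat_lit 1), (nat_lit 3), (nat_lit 1), (nat_lit 3), (nat_lit 1), (nat_lit 3), (nat_lit 1), (nat_lit 3), (nat_lit 1), (nat_lit 3), (nat_lit 1), (nat_lit 3), (nat_lit 1), (nat_lit 3), (nat_lit 1), (nat_lit 3)],
  [(nat_lit 1), (nat_lit 3), (nat_lit 1), (nat_lit 3), (nat_lit 3), (nat_lit 3), (nat_lit 1), (nat_lit 3), (nat_lit 1), (nat_lit 3), (nat_lit 3), (nat_lit 3), (nat_lit 1), (nat_lit 3), (nat_lit 1), (nat_lit 3), (nat_lit 3), (nat_lit 3), (nat_lit 1), (nat_lit 3), (nat_lit 1), (nat_lit 3), (nat_lit 3), (nat_lit 3)],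
  [(nat_lit 5), (nat_lit 5)],
  [(nat_lit 5), (nat_lit 1), (nat_lit 5), (nat_lit 1)],
  [(nat_lit 6), (nat_lit 3), (nat_lit 2), (nat_lit 4), (nat_lit 4), (nat_lit 2), (nat_lit 4), (nat_lit 2), (nat_lit 4), (nat_lit 5), (nat_lit 3), (nat_lit 1), (nat_lit 3), (nat_lit 1), (nat_lit 3), (nat_lit 3), (nat_lit 1), (nat_lit 4), (nat_lit 2), (nat_lit 2)],
  [(nat_lit 5), (nat_lit 4), (nat_lit 2), (nat_lit 4), (nat_lit 2), (nat_lit 4), (nat_lit 4), (nat_lit 4), (nat_lit 5), (nat_lit 3), (nat_lit 3), (nat_lit 3), (nat_lit 1), (nat_lit 3), (nat_lit 1), (nat_lit 3), (nat_lit 1), (nat_lit 4), (nat_lit 2), (nat_lit 4), (nat_lit 2), (nat_lit 4), (nat_lit 4), (nat_lit 4), (nat_lit 5), (nat_lit 3), (nat_lit 3), (nat_lit 3), (nat_lit 1), (nat_lit 3), (nat_lit 1), (nat_lit 3), (nat_lit 1), (nat_lit 4), (nat_lit 2), (nat_lit 4), (nat_lit 2), (nat_lit 4), (nat_lit 4), (nat_lit 4),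 (nat_lit 5), (nat_lit 3), (nat_lit 3), (nat_lit 3), (nat_lit 1), (nat_lit 3), (nat_lit 1), (nat_lit 3), (nat_lit 1)]]
noncomputable def Rq : List (List Nat) := [[(nat_lit 1), (nat_lit 1)],
  [(nat_lit 3), (nat_lit 3), (nat_lit 3), (nat_lit 3), (nat_lit 3), (nat_lit 3)],
  [(nat_lit 1), (nat_lit 1), (nat_lit 3), (nat_lit 1), (nat_lit 1), (nat_lit 4)],
  [(nat_lit 2), (nat_lit 4), (nat_lit 1), (nat_lit 3), (nat_lit 2), (nat_lit 4), (nat_lit 1), (nat_lit 3), (nat_lit 2), (nat_lit 4), (nat_lit 1), (nat_lit 3)],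
  [(nat_lit 2), (nat_lit 3), (nat_lit 3), (nat_lit 1), (nat_lit 3), (nat_lit 3), (nat_lit 3), (nat_lit 2), (nat_lit 3), (nat_lit 3), (nat_lit 1), (nat_lit 3), (nat_lit 3), (nat_lit 3), (nat_lit 2), (nat_lit 3), (nat_lit 3), (nat_lit 1), (nat_lit 3), (nat_lit 3), (nat_lit 3)],
  [(nat_lit 1), (nat_lit 3), (nat_lit 1), (nat_lit 3), (nat_lit 1), (nat_lit 3), (nat_lit 1), (nat_lit 3), (nat_lit 1), (nat_lit 3), (nat_lit 1), (nat_lit 3), (nat_lit 1), (nat_lit 3), (nat_lit 1), (nat_lit 3)],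
  [(nat_lit 1), (nat_lit 3), (nat_lit 1), (nat_lit 3), (nat_lit 3), (nat_lit 3), (nat_lit 1), (nat_lit 3), (nat_lit 1), (nat_lit 3), (nat_lit 3), (nat_lit 3), (nat_lit 1), (nat_lit 3), (nat_lit 1), (nat_lit 3), (nat_lit 3), (nat_lit 3), (nat_lit 1), (nat_lit 3), (nat_lit 1), (nat_lit 3), (nat_lit 3), (nat_lit 3)]]
noncomputable def H0 : List (List Nat) := [[(nat_lit 1)],
  [(nat_lit 3)]]
noncomputable def H1 : List (List Nat) := [[(nat_lit 1)],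
  [(nat_lit 3)],
  [(nat_lit 5)]]
noncomputable def S5 : List (List Nat) := [[(nat_lit 3)],
  [(nat_lit 1), (nat_lit 3), (nat_lit 3), (nat_lit 3), (nat_lit 2)]]
noncomputable def R5 : List (List Nat) := [[(nat_lit 1), (nat_lit 1), (nat_lit 1), (nat_lit 1), (nat_lit 1), (nat_lit 1)],
  [(nat_lit 3), (nat_lit 3)],
  [(nat_lit 1), (nat_lit 3), (nat_lit 1), (nat_lit 3), (nat_lit 1), (nat_lit 3), (nat_lit 1), (nat_lit 3)],
  [(nat_lit 1), (nat_lit 1), (nat_lit 3), (nat_lit 1), (nat_lit 1), (nat_lit 3), (nat_lit 1), (nat_lit 1), (nat_lit 3)]]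
noncomputable def w0 : List Nat := [(nat_lit 3), (nat_lit 1), (nat_lit 3), (nat_lit 1), (nat_lit 3), (nat_lit 3), (nat_lit 1), (nat_lit 4)]
noncomputable def ze : List Nat := [(nat_lit 1), (nat_lit 3), (nat_lit 1), (nat_lit 3), (nat_lit 1), (nat_lit 3), (nat_lit 3), (nat_lit 1), (nat_lit 4), (nat_lit 1), (nat_lit 3), (nat_lit 1), (nat_lit 3), (nat_lit 1), (nat_lit 3), (nat_lit 3), (nat_lit 1), (nat_lit 4), (nat_lit 1), (nat_lit 3), (nat_lit 1), (nat_lit 3), (nat_lit 1), (nat_lit 3), (nat_lit 3), (nat_lit 1), (nat_lit 4), (nat_lit 1), (nat_lit 3), (nat_lit 1), (nat_lit 3), (nat_lit 1), (nat_lit 3), (nat_lit 3), (nat_lit 1), (nat_lit 4), (nat_lit 1), (nat_lit 3), (nat_lit 1), (nat_lit 3), (nat_lit 1), (nat_lit 3), (nat_lit 3), (nat_lit 1), (nat_lit 4), (nat_lit 1), (nat_lit 3), (nat_lit 1), (nat_lit 3), (nat_lit 1), (nat_lit 3), (nat_lit 3), (nat_lit 1), (nat_lit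 4), (nat_lit 1), (nat_lit 3), (nat_lit 1), (nat_lit 3), (nat_lit 1), (nat_lit 3), (nat_lit 3), (nat_lit 1), (nat_lit 4)]
noncomputable def w1 : List Nat := [(nat_lit 3), (nat_lit 3), (nat_lit 3), (nat_lit 1), (nat_lit 3), (nat_lit 1), (nat_lit 3)]
noncomputable def c5 : List (List (List Nat × Nat)) := [[([], (nat_lit 3))],
  [([(nat_lit 1)], (nat_lit 3))],
  [([(nat_lit 3), (nat_lit 1), (nat_lit 3), (nat_lit 3), (nat_lit 3)], (nat_lit 2)), ([(nat_lit 3), (nat_lit 1), (nat_lit 3), (nat_lit 3), (nat_lit 3), (nat_lit 1), (nat_lit 3), (nat_lit 1), (nat_lit 3), (nat_lit 3), (nat_lit 3)], (nat_lit 2)), ([(nat_lit 2)], (nat_lit 13)), ([(nat_lit 2), (nat_lit 4), (nat_lit 4), (nat_lit 4), (nat_lit 2), (nat_lit 4)], (nat_lit 2)), ([], (nat_lit 2))],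
  [([(nat_lit 1)], (nat_lit 9))]]
noncomputable def RD : List (List Nat) := [[(nat_lit 3), (nat_lit 1), (nat_lit 3), (nat_lit 1), (nat_lit 3), (nat_lit 1), (nat_lit 3), (nat_lit 3), (nat_lit 1), (nat_lit 4), (nat_lit 1), (nat_lit 3), (nat_lit 1), (nat_lit 3), (nat_lit 1), (nat_lit 3), (nat_lit 3), (nat_lit 1), (nat_lit 4), (nat_lit 1), (nat_lit 3), (nat_lit 1), (nat_lit 3), (nat_lit 1), (nat_lit 3), (nat_lit 3), (nat_lit 1), (nat_lit 4), (nat_lit 1), (nat_lit 3), (nat_lit 1), (nat_lit 3), (nat_lit 1), (nat_lit 3), (nat_lit 3), (nat_lit 1), (nat_lit 4), (nat_lit 1), (nat_lit 3), (nat_lit 1), (nat_lit 3), (nat_lit 1), (nat_lit 3), (nat_lit 3), (nat_lit 1), (nat_lit 4), (nat_lit 1), (nat_lit 3), (nat_lit 1), (nat_lit 3), (nat_lit 1), (nat_lit 3), (nat_lit 3), (nat_lit 1), (nat_lit 4), (nat_lit 1), (nat_lit 3), (nat_lit 1), (nat_lit 3), (nat_lit 1), (nat_lit 3),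 (nat_lit 3), (nat_lit 1), (nat_lit 4), (nat_lit 4), (nat_lit 3), (nat_lit 2), (nat_lit 4), (nat_lit 4), (nat_lit 2), (nat_lit 4), (nat_lit 2), (nat_lit 4), (nat_lit 2), (nat_lit 3), (nat_lit 2), (nat_lit 4), (nat_lit 4), (nat_lit 2), (nat_lit 4), (nat_lit 2), (nat_lit 4), (nat_lit 2), (nat_lit 3), (nat_lit 2), (nat_lit 4), (nat_lit 4), (nat_lit 2), (nat_lit 4), (nat_lit 2), (nat_lit 4), (nat_lit 2), (nat_lit 3), (nat_lit 2), (nat_lit 4), (nat_lit 4), (nat_lit 2), (nat_lit 4), (nat_lit 2), (nat_lit 4), (nat_lit 2), (nat_lit 3), (nat_lit 2), (nat_lit 4), (nat_lit 4), (nat_lit 2), (nat_lit 4), (nat_lit 2), (nat_lit 4), (nat_lit 2), (nat_lit 3), (nat_lit 2), (nat_lit 4), (nat_lit 4), (nat_lit 2), (nat_lit 4), (nat_lit 2), (nat_lit 4), (nat_lit 2), (nat_lit 3), (nat_lit 2), (nat_lit 4), (nat_lit 4), (nat_lit 2), (nat_lit 4), (nat_lit 2), (nat_lit 4), (nat_lit 2)],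
  [(nat_lit 1), (nat_lit 1), (nat_lit 3), (nat_lit 1), (nat_lit 3), (nat_lit 1), (nat_lit 3), (nat_lit 3), (nat_lit 1), (nat_lit 4), (nat_lit 1), (nat_lit 3), (nat_lit 1), (nat_lit 3), (nat_lit 1), (nat_lit 3), (nat_lit 3), (nat_lit 1), (nat_lit 4), (nat_lit 1), (nat_lit 3), (nat_lit 1), (nat_lit 3), (nat_lit 1), (nat_lit 3), (nat_lit 3), (nat_lit 1), (nat_lit 4), (nat_lit 1), (nat_lit 3), (nat_lit 1), (nat_lit 3), (nat_lit 1), (nat_lit 3), (nat_lit 3), (nat_lit 1), (nat_lit 4), (nat_lit 1), (nat_lit 3), (nat_lit 1), (nat_lit 3), (nat_lit 1), (nat_lit 3), (nat_lit 3), (nat_lit 1), (nat_lit 4), (nat_lit 1), (nat_lit 3), (nat_lit 1), (nat_lit 3), (nat_lit 1), (nat_lit 3), (nat_lit 3), (nat_lit 1), (nat_lit 4), (nat_lit 1), (nat_lit 3), (nat_lit 1), (nat_lit 3), (nat_lit 1), (nat_lit 3), (nat_lit 3), (nat_lit 1), (nat_lit 4), (nat_lit 2), (nat_lit 1), (nat_lit 3),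 (nat_lit 1), (nat_lit 3), (nat_lit 1), (nat_lit 3), (nat_lit 3), (nat_lit 1), (nat_lit 4), (nat_lit 1), (nat_lit 3), (nat_lit 1), (nat_lit 3), (nat_lit 1), (nat_lit 3), (nat_lit 3), (nat_lit 1), (nat_lit 4), (nat_lit 1), (nat_lit 3), (nat_lit 1), (nat_lit 3), (nat_lit 1), (nat_lit 3), (nat_lit 3), (nat_lit 1), (nat_lit 4), (nat_lit 1), (nat_lit 3), (nat_lit 1), (nat_lit 3), (nat_lit 1), (nat_lit 3), (nat_lit 3), (nat_lit 1), (nat_lit 4), (nat_lit 1), (nat_lit 3), (nat_lit 1), (nat_lit 3), (nat_lit 1), (nat_lit 3), (nat_lit 3), (nat_lit 1), (nat_lit 4), (nat_lit 1), (nat_lit 3), (nat_lit 1), (nat_lit 3), (nat_lit 1), (nat_lit 3), (nat_lit 3), (nat_lit 1), (nat_lit 4), (nat_lit 1), (nat_lit 3), (nat_lit 1), (nat_lit 3), (nat_lit 1), (nat_lit 3), (nat_lit 3), (nat_lit 1), (nat_lit 4)],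
  [(nat_lit 1), (nat_lit 3), (nat_lit 1), (nat_lit 3), (nat_lit 1), (nat_lit 3), (nat_lit 3), (nat_lit 1), (nat_lit 4), (nat_lit 1), (nat_lit 3), (nat_lit 1), (nat_lit 3), (nat_lit 1), (nat_lit 3), (nat_lit 3), (nat_lit 1), (nat_lit 4), (nat_lit 1), (nat_lit 3), (nat_lit 1), (nat_lit 3), (nat_lit 1), (nat_lit 3), (nat_lit 3), (nat_lit 1), (nat_lit 4), (nat_lit 1), (nat_lit 3), (nat_lit 1), (nat_lit 3), (nat_lit 1), (nat_lit 3), (nat_lit 3), (nat_lit 1), (nat_lit 4), (nat_lit 1), (nat_lit 3), (nat_lit 1), (nat_lit 3), (nat_lit 1), (nat_lit 3), (nat_lit 3), (nat_lit 1), (nat_lit 4), (nat_lit 1), (nat_lit 3), (nat_lit 1), (nat_lit 3), (nat_lit 1), (nat_lit 3), (nat_lit 3), (nat_lit 1), (nat_lit 4), (nat_lit 1), (nat_lit 3), (nat_lit 1), (nat_lit 3), (nat_lit 1), (nat_lit 3), (nat_lit 3), (nat_lit 1), (nat_lit 4), (nat_lit 1), (nat_lit 3), (nat_lit 1), (nat_lit 3),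 (nat_lit 1), (nat_lit 3), (nat_lit 3), (nat_lit 1), (nat_lit 4), (nat_lit 1), (nat_lit 3), (nat_lit 1), (nat_lit 3), (nat_lit 1), (nat_lit 3), (nat_lit 3), (nat_lit 1), (nat_lit 4), (nat_lit 1), (nat_lit 3), (nat_lit 1), (nat_lit 3), (nat_lit 1), (nat_lit 3), (nat_lit 3), (nat_lit 1), (nat_lit 4), (nat_lit 1), (nat_lit 3), (nat_lit 1), (nat_lit 3), (nat_lit 1), (nat_lit 3), (nat_lit 3), (nat_lit 1), (nat_lit 4), (nat_lit 1), (nat_lit 3), (nat_lit 1), (nat_lit 3), (nat_lit 1), (nat_lit 3), (nat_lit 3), (nat_lit 1), (nat_lit 4), (nat_lit 1), (nat_lit 3), (nat_lit 1), (nat_lit 3), (nat_lit 1), (nat_lit 3), (nat_lit 3), (nat_lit 1), (nat_lit 4), (nat_lit 1), (nat_lit 3), (nat_lit 1), (nat_lit 3), (nat_lit 1), (nat_lit 3), (nat_lit 3), (nat_lit 1), (nat_lit 4), (nat_lit 1), (nat_lit 3), (nat_lit 1), (nat_lit 3), (nat_lit 1), (nat_lit 3), (nat_lit 3), (nat_lit 1),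 (nat_lit 4), (nat_lit 1), (nat_lit 3), (nat_lit 1), (nat_lit 3), (nat_lit 1), (nat_lit 3), (nat_lit 3), (nat_lit 1), (nat_lit 4), (nat_lit 1), (nat_lit 3), (nat_lit 1), (nat_lit 3), (nat_lit 1), (nat_lit 3), (nat_lit 3), (nat_lit 1), (nat_lit 4), (nat_lit 1), (nat_lit 3), (nat_lit 1), (nat_lit 3), (nat_lit 1), (nat_lit 3), (nat_lit 3), (nat_lit 1), (nat_lit 4), (nat_lit 1), (nat_lit 3), (nat_lit 1), (nat_lit 3), (nat_lit 1), (nat_lit 3), (nat_lit 3), (nat_lit 1), (nat_lit 4), (nat_lit 1), (nat_lit 3), (nat_lit 1), (nat_lit 3), (nat_lit 1), (nat_lit 3), (nat_lit 3), (nat_lit 1), (nat_lit 4), (nat_lit 1), (nat_lit 3), (nat_lit 1), (nat_lit 3), (nat_lit 1), (nat_lit 3), (nat_lit 3), (nat_lit 1), (nat_lit 4)],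
  [(nat_lit 2), (nat_lit 3), (nat_lit 1), (nat_lit 3), (nat_lit 1), (nat_lit 3), (nat_lit 3), (nat_lit 1), (nat_lit 4), (nat_lit 2), (nat_lit 2), (nat_lit 2), (nat_lit 3), (nat_lit 1), (nat_lit 3), (nat_lit 1), (nat_lit 3), (nat_lit 3), (nat_lit 1), (nat_lit 4), (nat_lit 2), (nat_lit 2), (nat_lit 2), (nat_lit 3), (nat_lit 1), (nat_lit 3), (nat_lit 1), (nat_lit 3), (nat_lit 3), (nat_lit 1), (nat_lit 4), (nat_lit 2), (nat_lit 2), (nat_lit 2), (nat_lit 3), (nat_lit 1), (nat_lit 3), (nat_lit 1), (nat_lit 3), (nat_lit 3), (nat_lit 1), (nat_lit 4), (nat_lit 2), (nat_lit 2), (nat_lit 2), (nat_lit 3), (nat_lit 1), (nat_lit 3), (nat_lit 1), (nat_lit 3), (nat_lit 3), (nat_lit 1), (nat_lit 4), (nat_lit 2), (nat_lit 2), (nat_lit 2), (nat_lit 3), (nat_lit 1), (nat_lit 3), (nat_lit 1), (nat_lit 3), (nat_lit 3), (nat_lit 1), (nat_lit 4), (nat_lit 2), (nat_lit 2), (nat_lit 2),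 (nat_lit 3), (nat_lit 1), (nat_lit 3), (nat_lit 1), (nat_lit 3), (nat_lit 3), (nat_lit 1), (nat_lit 4), (nat_lit 2), (nat_lit 2), (nat_lit 3), (nat_lit 2), (nat_lit 4), (nat_lit 4), (nat_lit 2), (nat_lit 4), (nat_lit 2), (nat_lit 4), (nat_lit 2), (nat_lit 3), (nat_lit 2), (nat_lit 4), (nat_lit 4), (nat_lit 2), (nat_lit 4), (nat_lit 2), (nat_lit 4), (nat_lit 2), (nat_lit 3), (nat_lit 2), (nat_lit 4), (nat_lit 4), (nat_lit 2), (nat_lit 4), (nat_lit 2), (nat_lit 4), (nat_lit 2), (nat_lit 3), (nat_lit 2), (nat_lit 4), (nat_lit 4), (nat_lit 2), (nat_lit 4), (nat_lit 2), (nat_lit 4), (nat_lit 2), (nat_lit 3), (nat_lit 2), (nat_lit 4), (nat_lit 4), (nat_lit 2), (nat_lit 4), (nat_lit 2), (nat_lit 4), (nat_lit 2), (nat_lit 3), (nat_lit 2), (nat_lit 4), (nat_lit 4), (nat_lit 2), (nat_lit 4), (nat_lit 2), (nat_lit 4), (nat_lit 2), (nat_lit 3), (nat_lit 2), (nat_lit 4),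 (nat_lit 4), (nat_lit 2), (nat_lit 4), (nat_lit 2), (nat_lit 4), (nat_lit 2)]]
noncomputable def zp : List Nat := [(nat_lit 2), (nat_lit 3), (nat_lit 1), (nat_lit 3), (nat_lit 1), (nat_lit 3), (nat_lit 3), (nat_lit 1), (nat_lit 4), (nat_lit 2), (nat_lit 2), (nat_lit 2), (nat_lit 3), (nat_lit 1), (nat_lit 3), (nat_lit 1), (nat_lit 3), (nat_lit 3), (nat_lit 1), (nat_lit 4), (nat_lit 2), (nat_lit 2), (nat_lit 2), (nat_lit 3), (nat_lit 1), (nat_lit 3), (nat_lit 1), (nat_lit 3), (nat_lit 3), (nat_lit 1), (nat_lit 4), (nat_lit 2), (nat_lit 2), (nat_lit 2), (nat_lit 3), (nat_lit 1), (nat_lit 3), (nat_lit 1), (nat_lit 3), (nat_lit 3), (nat_lit 1), (nat_lit 4), (nat_lit 2), (nat_lit 2), (nat_lit 2), (nat_lit 3), (nat_lit 1), (nat_lit 3), (nat_lit 1), (nat_lit 3), (nat_lit 3), (nat_lit 1), (nat_lit 4), (nat_lit 2), (nat_lit 2), (nat_lit 2), (nat_lit 3), (nat_lit 1), (nat_lit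 3), (nat_lit 1), (nat_lit 3), (nat_lit 3), (nat_lit 1), (nat_lit 4), (nat_lit 2), (nat_lit 2), (nat_lit 2), (nat_lit 3), (nat_lit 1), (nat_lit 3), (nat_lit 1), (nat_lit 3), (nat_lit 3), (nat_lit 1), (nat_lit 4), (nat_lit 2), (nat_lit 2)]
noncomputable def cz : List (List Nat × Nat) := [([(nat_lit 6), (nat_lit 6)], (nat_lit 15)), ([], (nat_lit 14)), ([(nat_lit 2), (nat_lit 3), (nat_lit 1), (nat_lit 3), (nat_lit 1), (nat_lit 3), (nat_lit 3), (nat_lit 1), (nat_lit 4), (nat_lit 2), (nat_lit 2)], (nat_lit 18)), ([(nat_lit 2), (nat_lit 3), (nat_lit 1), (nat_lit 3), (nat_lit 1), (nat_lit 3), (nat_lit 3), (nat_lit 1), (nat_lit 4), (nat_lit 2), (nat_lit 2), (nat_lit 6), (nat_lit 6)], (nat_lit 15)), ([(nat_lit 2), (nat_lit 3), (nat_lit 1), (nat_lit 3), (nat_lit 1), (nat_lit 3), (nat_lit 3), (nat_lit 1), (nat_lit 4), (nat_lit 2), (nat_lit 2)], (nat_lit 14)), ([(nat_lit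 2), (nat_lit 3), (nat_lit 1), (nat_lit 3), (nat_lit 1), (nat_lit 3), (nat_lit 3), (nat_lit 1), (nat_lit 4), (nat_lit 2), (nat_lit 2), (nat_lit 2), (nat_lit 3), (nat_lit 1), (nat_lit 3), (nat_lit 1), (nat_lit 3), (nat_lit 3), (nat_lit 1), (nat_lit 4), (nat_lit 2), (nat_lit 2)], (nat_lit 18)), ([(nat_lit 2), (nat_lit 3), (nat_lit 1), (nat_lit 3), (nat_lit 1), (nat_lit 3), (nat_lit 3), (nat_lit 1), (nat_lit 4), (nat_lit 2), (nat_lit 2), (nat_lit 2), (nat_lit 3), (nat_lit 1), (nat_lit 3), (nat_lit 1), (nat_lit 3), (nat_lit 3), (nat_lit 1), (nat_lit 4), (nat_lit 2), (nat_lit 2), (nat_lit 6), (nat_lit 6)], (nat_lit 15)), ([(nat_lit 2), (nat_lit 3), (nat_lit 1), (nat_lit 3), (nat_lit 1), (nat_lit 3), (nat_lit 3), (nat_lit 1), (nat_lit 4), (nat_lit 2), (nat_lit 2), (nat_lit 2), (nat_lit 3), (nat_lit 1), (nat_lit 3), (nat_lit 1), (nat_lit 3), (nat_lit 3), (nat_lit 1),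 (nat_lit 4), (nat_lit 2), (nat_lit 2)], (nat_lit 14)), ([(nat_lit 2), (nat_lit 3), (nat_lit 1), (nat_lit 3), (nat_lit 1), (nat_lit 3), (nat_lit 3), (nat_lit 1), (nat_lit 4), (nat_lit 2), (nat_lit 2), (nat_lit 2), (nat_lit 3), (nat_lit 1), (nat_lit 3), (nat_lit 1), (nat_lit 3), (nat_lit 3), (nat_lit 1), (nat_lit 4), (nat_lit 2), (nat_lit 2), (nat_lit 2), (nat_lit 3), (nat_lit 1), (nat_lit 3), (nat_lit 1), (nat_lit 3), (nat_lit 3), (nat_lit 1), (nat_lit 4), (nat_lit 2), (nat_lit 2)], (nat_lit 18)), ([(nat_lit 2), (nat_lit 3), (nat_lit 1), (nat_lit 3), (nat_lit 1), (nat_lit 3), (nat_lit 3), (nat_lit 1), (nat_lit 4), (nat_lit 2), (nat_lit 2), (nat_lit 2), (nat_lit 3), (nat_lit 1), (nat_lit 3), (nat_lit 1), (nat_lit 3), (nat_lit 3), (nat_lit 1), (nat_lit 4), (nat_lit 2), (nat_lit 2), (nat_lit 2), (nat_lit 3), (nat_lit 1), (nat_lit 3), (nat_lit 1), (nat_lit 3), (nat_lit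 3), (nat_lit 1), (nat_lit 4), (nat_lit 2), (nat_lit 2), (nat_lit 6), (nat_lit 6)], (nat_lit 15)), ([(nat_lit 2), (nat_lit 3), (nat_lit 1), (nat_lit 3), (nat_lit 1), (nat_lit 3), (nat_lit 3), (nat_lit 1), (nat_lit 4), (nat_lit 2), (nat_lit 2), (nat_lit 2), (nat_lit 3), (nat_lit 1), (nat_lit 3), (nat_lit 1), (nat_lit 3), (nat_lit 3), (nat_lit 1), (nat_lit 4), (nat_lit 2), (nat_lit 2), (nat_lit 2), (nat_lit 3), (nat_lit 1), (nat_lit 3), (nat_lit 1), (nat_lit 3), (nat_lit 3), (nat_lit 1), (nat_lit 4), (nat_lit 2), (nat_lit 2)], (nat_lit 14)), ([(nat_lit 2), (nat_lit 3), (nat_lit 1), (nat_lit 3), (nat_lit 1), (nat_lit 3), (nat_lit 3), (nat_lit 1), (nat_lit 4), (nat_lit 2), (nat_lit 2), (nat_lit 2), (nat_lit 3), (nat_lit 1), (nat_lit 3), (nat_lit 1), (nat_lit 3), (nat_lit 3), (nat_lit 1), (nat_lit 4), (nat_lit 2), (nat_lit 2), (nat_lit 2), (nat_lit 3), (nat_lit 1),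 (nat_lit 3), (nat_lit 1), (nat_lit 3), (nat_lit 3), (nat_lit 1), (nat_lit 4), (nat_lit 2), (nat_lit 2), (nat_lit 2), (nat_lit 3), (nat_lit 1), (nat_lit 3), (nat_lit 1), (nat_lit 3), (nat_lit 3), (nat_lit 1), (nat_lit 4), (nat_lit 2), (nat_lit 2)], (nat_lit 18)), ([(nat_lit 2), (nat_lit 3), (nat_lit 1), (nat_lit 3), (nat_lit 1), (nat_lit 3), (nat_lit 3), (nat_lit 1), (nat_lit 4), (nat_lit 2), (nat_lit 2), (nat_lit 2), (nat_lit 3), (nat_lit 1), (nat_lit 3), (nat_lit 1), (nat_lit 3), (nat_lit 3), (nat_lit 1), (nat_lit 4), (nat_lit 2), (nat_lit 2), (nat_lit 2), (nat_lit 3), (nat_lit 1), (nat_lit 3), (nat_lit 1), (nat_lit 3), (nat_lit 3), (nat_lit 1), (nat_lit 4), (nat_lit 2), (nat_lit 2), (nat_lit 2), (nat_lit 3), (nat_lit 1), (nat_lit 3), (nat_lit 1), (nat_lit 3), (nat_lit 3), (nat_lit 1), (nat_lit 4), (nat_lit 2), (nat_lit 2), (nat_lit 6), (nat_lit 6)], (nat_lit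 15)), ([(nat_lit 2), (nat_lit 3), (nat_lit 1), (nat_lit 3), (nat_lit 1), (nat_lit 3), (nat_lit 3), (nat_lit 1), (nat_lit 4), (nat_lit 2), (nat_lit 2), (nat_lit 2), (nat_lit 3), (nat_lit 1), (nat_lit 3), (nat_lit 1), (nat_lit 3), (nat_lit 3), (nat_lit 1), (nat_lit 4), (nat_lit 2), (nat_lit 2), (nat_lit 2), (nat_lit 3), (nat_lit 1), (nat_lit 3), (nat_lit 1), (nat_lit 3), (nat_lit 3), (nat_lit 1), (nat_lit 4), (nat_lit 2), (nat_lit 2), (nat_lit 2), (nat_lit 3), (nat_lit 1), (nat_lit 3), (nat_lit 1), (nat_lit 3), (nat_lit 3), (nat_lit 1), (nat_lit 4), (nat_lit 2), (nat_lit 2)], (nat_lit 14)), ([(nat_lit 2), (nat_lit 3), (nat_lit 1), (nat_lit 3), (nat_lit 1), (nat_lit 3), (nat_lit 3), (nat_lit 1), (nat_lit 4), (nat_lit 2), (nat_lit 2), (nat_lit 2), (nat_lit 3), (nat_lit 1), (nat_lit 3), (nat_lit 1), (nat_lit 3), (nat_lit 3), (nat_lit 1), (nat_lit 4), (nat_lit 2),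 (nat_lit 2), (nat_lit 2), (nat_lit 3), (nat_lit 1), (nat_lit 3), (nat_lit 1), (nat_lit 3), (nat_lit 3), (nat_lit 1), (nat_lit 4), (nat_lit 2), (nat_lit 2), (nat_lit 2), (nat_lit 3), (nat_lit 1), (nat_lit 3), (nat_lit 1), (nat_lit 3), (nat_lit 3), (nat_lit 1), (nat_lit 4), (nat_lit 2), (nat_lit 2), (nat_lit 2), (nat_lit 3), (nat_lit 1), (nat_lit 3), (nat_lit 1), (nat_lit 3), (nat_lit 3), (nat_lit 1), (nat_lit 4), (nat_lit 2), (nat_lit 2)], (nat_lit 18)), ([(nat_lit 2), (nat_lit 3), (nat_lit 1), (nat_lit 3), (nat_lit 1), (nat_lit 3), (nat_lit 3), (nat_lit 1), (nat_lit 4), (nat_lit 2), (nat_lit 2), (nat_lit 2), (nat_lit 3), (nat_lit 1), (nat_lit 3), (nat_lit 1), (nat_lit 3), (nat_lit 3), (nat_lit 1), (nat_lit 4), (nat_lit 2), (nat_lit 2), (nat_lit 2), (nat_lit 3), (nat_lit 1), (nat_lit 3), (nat_lit 1), (nat_lit 3), (nat_lit 3), (nat_lit 1), (nat_lit 4), (nat_lit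 2), (nat_lit 2), (nat_lit 2), (nat_lit 3), (nat_lit 1), (nat_lit 3), (nat_lit 1), (nat_lit 3), (nat_lit 3), (nat_lit 1), (nat_lit 4), (nat_lit 2), (nat_lit 2), (nat_lit 2), (nat_lit 3), (nat_lit 1), (nat_lit 3), (nat_lit 1), (nat_lit 3), (nat_lit 3), (nat_lit 1), (nat_lit 4), (nat_lit 2), (nat_lit 2), (nat_lit 6), (nat_lit 6)], (nat_lit 15)), ([(nat_lit 2), (nat_lit 3), (nat_lit 1), (nat_lit 3), (nat_lit 1), (nat_lit 3), (nat_lit 3), (nat_lit 1), (nat_lit 4), (nat_lit 2), (nat_lit 2), (nat_lit 2), (nat_lit 3), (nat_lit 1), (nat_lit 3), (nat_lit 1), (nat_lit 3), (nat_lit 3), (nat_lit 1), (nat_lit 4), (nat_lit 2), (nat_lit 2), (nat_lit 2), (nat_lit 3), (nat_lit 1), (nat_lit 3), (nat_lit 1), (nat_lit 3), (nat_lit 3), (nat_lit 1), (nat_lit 4), (nat_lit 2), (nat_lit 2), (nat_lit 2), (nat_lit 3), (nat_lit 1), (nat_lit 3), (nat_lit 1), (nat_lit 3), (nat_lit 3), (nat_lit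 1), (nat_lit 4), (nat_lit 2), (nat_lit 2), (nat_lit 2), (nat_lit 3), (nat_lit 1), (nat_lit 3), (nat_lit 1), (nat_lit 3), (nat_lit 3), (nat_lit 1), (nat_lit 4), (nat_lit 2), (nat_lit 2)], (nat_lit 14)), ([(nat_lit 2), (nat_lit 3), (nat_lit 1), (nat_lit 3), (nat_lit 1), (nat_lit 3), (nat_lit 3), (nat_lit 1), (nat_lit 4), (nat_lit 2), (nat_lit 2), (nat_lit 2), (nat_lit 3), (nat_lit 1), (nat_lit 3), (nat_lit 1), (nat_lit 3), (nat_lit 3), (nat_lit 1), (nat_lit 4), (nat_lit 2), (nat_lit 2), (nat_lit 2), (nat_lit 3), (nat_lit 1), (nat_lit 3), (nat_lit 1), (nat_lit 3), (nat_lit 3), (nat_lit 1), (nat_lit 4), (nat_lit 2), (nat_lit 2), (nat_lit 2), (nat_lit 3), (nat_lit 1), (nat_lit 3), (nat_lit 1), (nat_lit 3), (nat_lit 3), (nat_lit 1), (nat_lit 4), (nat_lit 2), (nat_lit 2), (nat_lit 2), (nat_lit 3), (nat_lit 1), (nat_lit 3), (nat_lit 1), (nat_lit 3), (nat_lit 3), (nat_lit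 1), (nat_lit 4), (nat_lit 2), (nat_lit 2), (nat_lit 2), (nat_lit 3), (nat_lit 1), (nat_lit 3), (nat_lit 1), (nat_lit 3), (nat_lit 3), (nat_lit 1), (nat_lit 4), (nat_lit 2), (nat_lit 2)], (nat_lit 18)), ([(nat_lit 2), (nat_lit 3), (nat_lit 1), (nat_lit 3), (nat_lit 1), (nat_lit 3), (nat_lit 3), (nat_lit 1), (nat_lit 4), (nat_lit 2), (nat_lit 2), (nat_lit 2), (nat_lit 3), (nat_lit 1), (nat_lit 3), (nat_lit 1), (nat_lit 3), (nat_lit 3), (nat_lit 1), (nat_lit 4), (nat_lit 2), (nat_lit 2), (nat_lit 2), (nat_lit 3), (nat_lit 1), (nat_lit 3), (nat_lit 1), (nat_lit 3), (nat_lit 3), (nat_lit 1), (nat_lit 4), (nat_lit 2), (nat_lit 2), (nat_lit 2), (nat_lit 3), (nat_lit 1), (nat_lit 3), (nat_lit 1), (nat_lit 3), (nat_lit 3), (nat_lit 1), (nat_lit 4), (nat_lit 2), (nat_lit 2), (nat_lit 2), (nat_lit 3), (nat_lit 1), (nat_lit 3), (nat_lit 1), (nat_lit 3), (nat_lit 3), (nat_lit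 1), (nat_lit 4), (nat_lit 2), (nat_lit 2), (nat_lit 2), (nat_lit 3), (nat_lit 1), (nat_lit 3), (nat_lit 1), (nat_lit 3), (nat_lit 3), (nat_lit 1), (nat_lit 4), (nat_lit 2), (nat_lit 2), (nat_lit 6), (nat_lit 6)], (nat_lit 15)), ([(nat_lit 2), (nat_lit 3), (nat_lit 1), (nat_lit 3), (nat_lit 1), (nat_lit 3), (nat_lit 3), (nat_lit 1), (nat_lit 4), (nat_lit 2), (nat_lit 2), (nat_lit 2), (nat_lit 3), (nat_lit 1), (nat_lit 3), (nat_lit 1), (nat_lit 3), (nat_lit 3), (nat_lit 1), (nat_lit 4), (nat_lit 2), (nat_lit 2), (nat_lit 2), (nat_lit 3), (nat_lit 1), (nat_lit 3), (nat_lit 1), (nat_lit 3), (nat_lit 3), (nat_lit 1), (nat_lit 4), (nat_lit 2), (nat_lit 2), (nat_lit 2), (nat_lit 3), (nat_lit 1), (nat_lit 3), (nat_lit 1), (nat_lit 3), (nat_lit 3), (nat_lit 1), (nat_lit 4), (nat_lit 2), (nat_lit 2), (nat_lit 2), (nat_lit 3), (nat_lit 1), (nat_lit 3), (nat_lit 1), (nat_lit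 3), (nat_lit 3), (nat_lit 1), (nat_lit 4), (nat_lit 2), (nat_lit 2), (nat_lit 2), (nat_lit 3), (nat_lit 1), (nat_lit 3), (nat_lit 1), (nat_lit 3), (nat_lit 3), (nat_lit 1), (nat_lit 4), (nat_lit 2), (nat_lit 2)], (nat_lit 14)), ([(nat_lit 2), (nat_lit 3), (nat_lit 1), (nat_lit 3), (nat_lit 1), (nat_lit 3), (nat_lit 3), (nat_lit 1), (nat_lit 4), (nat_lit 2), (nat_lit 2), (nat_lit 2), (nat_lit 3), (nat_lit 1), (nat_lit 3), (nat_lit 1), (nat_lit 3), (nat_lit 3), (nat_lit 1), (nat_lit 4), (nat_lit 2), (nat_lit 2), (nat_lit 2), (nat_lit 3), (nat_lit 1), (nat_lit 3), (nat_lit 1), (nat_lit 3), (nat_lit 3), (nat_lit 1), (nat_lit 4), (nat_lit 2), (nat_lit 2), (nat_lit 2), (nat_lit 3), (nat_lit 1), (nat_lit 3), (nat_lit 1), (nat_lit 3), (nat_lit 3), (nat_lit 1), (nat_lit 4), (nat_lit 2), (nat_lit 2), (nat_lit 2), (nat_lit 3), (nat_lit 1), (nat_lit 3), (nat_lit 1), (nat_lit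 3), (nat_lit 3), (nat_lit 1), (nat_lit 4), (nat_lit 2), (nat_lit 2), (nat_lit 2), (nat_lit 3), (nat_lit 1), (nat_lit 3), (nat_lit 1), (nat_lit 3), (nat_lit 3), (nat_lit 1), (nat_lit 4), (nat_lit 2), (nat_lit 2), (nat_lit 2), (nat_lit 3), (nat_lit 1), (nat_lit 3), (nat_lit 1), (nat_lit 3), (nat_lit 3), (nat_lit 1), (nat_lit 4), (nat_lit 2), (nat_lit 2)], (nat_lit 18))]

end CF.Comp.HN
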