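import Cfsg.Agent.Comp.Defs

set_option autoImplicit false
set_option maxRecDepth 1000000
set_option maxHeartbeats 0
set_option Elab.async false

namespace CF.Comp.HN

noncomputable def NH_0 : Net := (Net.cons (nat_lit 1) (nat_lit 0x4040554100005105045550100) (Net.cons (nat_lit 2) (nat_lit 0x3111233122202011022320000) (Net.cons (nat_lit 4) (nat_lit 0xc000a0c0e0e0e05000b0001) (Net.cons (nat_lit 8) (nat_lit 0x8a0088004800da00010000) (Net.cons (nat_lit 16) (nat_lit 0x821800000aac00000001) (Net.cons (nat_lit 32) (nat_lit 2215451440) (Net.cons (nat_lit 64) (nat_lit 0xbfdfd3b7b) (Net.cons (nat_lit 32) (nat_lit 0x600000000b5d0742c) (Net.cons (nat_lit 16) (nat_lit 0x9b690000cd6e0000b7f3) (Net.cons (nat_lit 8) (nat_lit 0x2000b800a2000c00a700c2) (Net.cons (nat_lit 4) (nat_lit 0xc0e04050605040b09010f07) (Net.cons (nat_lit 2) (nat_lit 0x1233111301130233301103333) (Net.cons (nat_lit 1) (nat_lit 0x4040554100005105045550100) Net.nil)))))))))))))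
noncomputable def NH_1 : Net := (Net.cons (nat_lit 1) (nat_lit 0x4045410440154141114514004) (Net.cons (nat_lit 2) (nat_lit 0x3110023302233022303010010) (Net.cons (nat_lit 4) (nat_lit 0xb080a09020301020a030a08) (Net.cons (nat_lit 8) (nat_lit 0x800e8000d00450042000a) (Net.cons (nat_lit 16) (nat_lit 0xe1c00000408a00000000) (Net.cons (nat_lit 32) (nat_lit 0x90000000038386aa0) (Net.cons (nat_lit 64) (nat_lit 0x5be786fb8) (Net.cons (nat_lit 32) (nat_lit 0x600000000b2cd1382) (Net.cons (nat_lit 16) (nat_lit 0x124d0000142c00000dd6) (Net.cons (nat_lit 8) (nat_lit 0xbe00700009006300a400e8) (Net.cons (nat_lit 4) (nat_lit 0xa07090d070e030a030b080c) (Net.cons (nat_lit 2) (nat_lit 0x2021313033320111222033032) (Net.cons (nat_lit 1) (nat_lit 0x1054141115100045450404145) Net.nil)))))))))))))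
noncomputable def NH_2 : Net := (Net.cons (nat_lit 1) (nat_lit 0x5414140155400540005000400) (Net.cons (nat_lit 2) (nat_lit 0x220013232210031013201000) (Net.cons (nat_lit 4) (nat_lit 0xb0902000d040e0000040400) (Net.cons (nat_lit 8) (nat_lit 0xc500310044000400880000) (Net.cons (nat_lit 16) (nat_lit 0x97230000321000000008) (Net.cons (nat_lit 32) (nat_lit 0x10000000063044000) (Net.cons (nat_lit 64) (nat_lit 0x973e4e648) (Net.cons (nat_lit 32) (nat_lit 0xb000000002b441958) (Net.cons (nat_lit 16) (nat_lit 0x976300007e1000004848) (Net.cons (nat_lit 8) (nat_lit 0x9500750004004400cd0040) (Net.cons (nat_lit 4) (nat_lit 0xb090a000f040e0000040400) (Net.cons (nat_lit 2) (nat_lit 0x220013232212031013201001) (Net.cons (nat_lit 1) (nat_lit 0x5414140155400540005000400) Net.nil)))))))))))))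
noncomputable def NH : List Net := [NH_0, NH_1, NH_2]
noncomputable def HW : List (List Nat) := [[(nat_lit 1), (nat_lit 3), (nat_lit 6), (nat_lit 6), (nat_lit 6), (nat_lit 12), (nat_lit 9), (nat_lit 9), (nat_lit 16), (nat_lit 13), (nat_lit 23)],
  [(nat_lit 1), (nat_lit 3), (nat_lit 1), (nat_lit 4), (nat_lit 2), (nat_lit 6), (nat_lit 8), (nat_lit 10), (nat_lit 11), (nat_lit 9), (nat_lit 11), (nat_lit 16), (nat_lit 13), (nat_lit 17), (nat_lit 19), (nat_lit 23)],
  [(nat_lit 3), (nat_lit 1), (nat_lit 1), (nat_lit 3), (nat_lit 1), (nat_lit 5), (nat_lit 7), (nat_lit 9), (nat_lit 12), (nat_lit 9), (nat_lit 9), (nat_lit 11), (nat_lit 15)]]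
noncomputable def Z0_0 : Net := (Net.cons (nat_lit 1) (nat_lit 0x4040554100005105045550100) (Net.cons (nat_lit 2) (nat_lit 0x3111233122202011022320000) (Net.cons (nat_lit 4) (nat_lit 0xc000a0c0e0e0e05000b0001) (Net.cons (nat_lit 8) (nat_lit 0x8a0088004800da00010000) (Net.cons (nat_lit 16) (nat_lit 0x821800000aac00000001) (Net.cons (nat_lit 32) (nat_lit 2215451440) (Net.cons (nat_lit 64) (nat_lit 0xbfdfd3b7b) (Net.cons (nat_lit 32) (nat_lit 0x600000000b5d0742c) (Net.cons (nat_lit 16) (nat_lit 0x9b690000cd6e0000b7f3) (Net.cons (nat_lit 8) (nat_lit 0x2000b800a2000c00a700c2) (Net.cons (nat_lit 4) (nat_lit 0xc0e04050605040b09010f07) (Net.cons (nat_lit 2) (nat_lit 0x1233111301130233301103333) (Net.cons (nat_lit 1) (nat_lit 0x4040554100005105045550100) Net.nil)))))))))))))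
noncomputable def Z0_1 : Net := (Net.cons (nat_lit 1) (nat_lit 0x4045410440154141114514004) (Net.cons (nat_lit 2) (nat_lit 0x3110023302233022303010010) (Net.cons (nat_lit 4) (nat_lit 0xb080a09020301020a030a08) (Net.cons (nat_lit 8) (nat_lit 0x800e8000d00450042000a) (Net.cons (nat_lit 16) (nat_lit 0xe1c00000408a00000000) (Net.cons (nat_lit 32) (nat_lit 0x90000000038386aa0) (Net.cons (nat_lit 64) (nat_lit 0x5be786fb8) (Net.cons (nat_lit 32) (nat_lit 0x600000000b2cd1382) (Net.cons (nat_lit 16) (nat_lit 0x124d0000142c00000dd6) (Net.cons (nat_lit 8) (nat_lit 0xbe00700009006300a400e8) (Net.cons (nat_lit 4) (nat_lit 0xa07090d070e030a030b080c) (Net.cons (nat_lit 2) (nat_lit 0x2021313033320111222033032) (Net.cons (nat_lit 1) (nat_lit 0x1054141115100045450404145) Net.nil)))))))))))))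
noncomputable def Z0_2 : Net := (Net.cons (nat_lit 1) (nat_lit 0x4154051510454011110154400) (Net.cons (nat_lit 2) (nat_lit 0x300001330313301310103330) (Net.cons (nat_lit 4) (nat_lit 0x303080b02080a04040a020f) (Net.cons (nat_lit 8) (nat_lit 0x69001700aa001a004e0001) (Net.cons (nat_lit 16) (nat_lit 0x4e41000091a300000007) (Net.cons (nat_lit 32) (nat_lit 0xc00000000894412e0) (Net.cons (nat_lit 64) (nat_lit 0x9cdf63be5) (Net.cons (nat_lit 32) (nat_lit 0x600000000202c6fdb) (Net.cons (nat_lit 16) (nat_lit 0x8d0c0000024b000080b3) (Net.cons (nat_lit 8) (nat_lit 0x260020004400ea00930009) (Net.cons (nat_lit 4) (nat_lit 0xc0c060e0701030e090e0306) (Net.cons (nat_lit 2) (nat_lit 0x2223210222200222310303321) (Net.cons (nat_lit 1) (nat_lit 0x511111041100104505104001) Net.nil)))))))))))))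
noncomputable def Z0 : List Net := [Z0_0, Z0_1, Z0_2]
noncomputable def Z1_0 : Net := (Net.cons (nat_lit 1) (nat_lit 0x4445514510140555041501100) (Net.cons (nat_lit 2) (nat_lit 0x2221013120011221320331120) (Net.cons (nat_lit 4) (nat_lit 0x30d0a0b0605070908020c0f) (Net.cons (nat_lit 8) (nat_lit 0x88005d0010008700000000) (Net.cons (nat_lit 16) (nat_lit 0xf85a00000c2400000007) (Net.cons (nat_lit 32) (nat_lit 0x600000000c0981b60) (Net.cons (nat_lit 64) (nat_lit 0x1c8fe7b67) (Net.cons (nat_lit 32) (nat_lit 0xe000000003c0053c7) (Net.cons (nat_lit 16) (nat_lit 0x8115000014ef000008cc) (Net.cons (nat_lit 8) (nat_lit 0x270035003d000600700060) (Net.cons (nat_lit 4) (nat_lit 0xc0e0a0b030e070108080005) (Net.cons (nat_lit 2) (nat_lit 0x131113001213230311131102) (Net.cons (nat_lit 1) (nat_lit 0x1515410010110555441501150) Net.nil)))))))))))))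
noncomputable def Z1_1 : Net := (Net.cons (nat_lit 1) (nat_lit 0x514454101141045045101014) (Net.cons (nat_lit 2) (nat_lit 0x13123201023011203012000) (Net.cons (nat_lit 4) (nat_lit 0x204080805080d0b0a06010d) (Net.cons (nat_lit 8) (nat_lit 0x1800a60086000300c80000) (Net.cons (nat_lit 16) (nat_lit 0x920c0000205200000004) (Net.cons (nat_lit 32) (nat_lit 0x4000000000a028100) (Net.cons (nat_lit 64) (nat_lit 0xe5befc301) (Net.cons (nat_lit 32) (nat_lit 0x900000000ff351465) (Net.cons (nat_lit 16) (nat_lit 0x95f10000f8a400004fa2) (Net.cons (nat_lit 8) (nat_lit 0x200ae00390012004100ec) (Net.cons (nat_lit 4) (nat_lit 0x80a0101080a0b04030d0b03) (Net.cons (nat_lit 2) (nat_lit 0x2310123322201031013311230) (Net.cons (nat_lit 1) (nat_lit 0x4001115401441411504450454) Net.nil)))))))))))))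
noncomputable def Z1_2 : Net := (Net.cons (nat_lit 1) (nat_lit 0x4511504511001150101151040) (Net.cons (nat_lit 2) (nat_lit 0x2221111222100122323120020) (Net.cons (nat_lit 4) (nat_lit 0x7050e090a0604020a050f04) (Net.cons (nat_lit 8) (nat_lit 0x430072000800b400340001) (Net.cons (nat_lit 16) (nat_lit 0x86860000e3a500000008) (Net.cons (nat_lit 32) (nat_lit 0x8000000002808cb10) (Net.cons (nat_lit 64) (nat_lit 0x76bdaef1d) (Net.cons (nat_lit 32) (nat_lit 0x200000000b469b3d4) (Net.cons (nat_lit 16) (nat_lit 0x85aa0000e1c90000c238) (Net.cons (nat_lit 8) (nat_lit 0x800fe00f600cc005f0085) (Net.cons (nat_lit 4) (nat_lit 0xa000c0b0d020308000d0b08) (Net.cons (nat_lit 2) (nat_lit 0x3302200102020121122131030) (Net.cons (nat_lit 1) (nat_lit 0x4411141511415101154441044) Net.nil)))))))))))))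
noncomputable def Z1_3 : Net := (Net.cons (nat_lit 1) (nat_lit 0x111145111550515040415540) (Net.cons (nat_lit 2) (nat_lit 0x1132333203200113200202120) (Net.cons (nat_lit 4) (nat_lit 0x90c090d08040b0102060605) (Net.cons (nat_lit 8) (nat_lit 0x2f00590089009000020003) (Net.cons (nat_lit 16) (nat_lit 0x881e0000890600000000) (Net.cons (nat_lit 32) (nat_lit 0x30000000008104520) (Net.cons (nat_lit 64) (nat_lit 0x6efdb456d) (Net.cons (nat_lit 32) (nat_lit 3720633608) (Net.cons (nat_lit 16) (nat_lit 0xf2840000dbd20000e943) (Net.cons (nat_lit 8) (nat_lit 0x2c00a300ab006d00b60062) (Net.cons (nat_lit 4) (nat_lit 0xf0605010c0c0c00010a060d) (Net.cons (nat_lit 2) (nat_lit 0x320013332002011321232130) (Net.cons (nat_lit 1) (nat_lit 0x1445540445040505114001050) Net.nil)))))))))))))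
noncomputable def Z1_4 : Net := (Net.cons (nat_lit 1) (nat_lit 0x555414044504541004105440) (Net.cons (nat_lit 2) (nat_lit 0x2100212001211311222100220) (Net.cons (nat_lit 4) (nat_lit 0x705030008080b0d0b080508) (Net.cons (nat_lit 8) (nat_lit 0x7600e000d900c100900003) (Net.cons (nat_lit 16) (nat_lit 0xe51c0000b3c800000004) (Net.cons (nat_lit 32) (nat_lit 0x800000000160c0d00) (Net.cons (nat_lit 64) (nat_lit 0x3ff1f5d0a) (Net.cons (nat_lit 32) (nat_lit 0x600000000e055059d) (Net.cons (nat_lit 16) (nat_lit 0x13020000997c0000b8ae) (Net.cons (nat_lit 8) (nat_lit 0xfb0056009800be003c00b3) (Net.cons (nat_lit 4) (nat_lit 0xd0c0000020c0b010c0b0000) (Net.cons (nat_lit 2) (nat_lit 0x1201203202310220301233300) (Net.cons (nat_lit 1) (nat_lit 0x5111400444104041101455140) Net.nil)))))))))))))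
noncomputable def Z1_5 : Net := (Net.cons (nat_lit 1) (nat_lit 0x4114055015055044051111500) (Net.cons (nat_lit 2) (nat_lit 0x3031132200033220010321000) (Net.cons (nat_lit 4) (nat_lit 0x20f0909090c020b0800030a) (Net.cons (nat_lit 8) (nat_lit 0x88003d003f00c200eb0008) (Net.cons (nat_lit 16) (nat_lit 0x8081000025b100000003) (Net.cons (nat_lit 32) (nat_lit 0x9000000009b350600) (Net.cons (nat_lit 64) (nat_lit 0x69ff7ef19) (Net.cons (nat_lit 32) (nat_lit 0xd00000000cf9d3c4b) (Net.cons (nat_lit 16) (nat_lit 0x7ff7000043b40000504b) (Net.cons (nat_lit 8) (nat_lit 0xc00f80033008b00e90008) (Net.cons (nat_lit 4) (nat_lit 0x5090c0101080b0b0d080e02) (Net.cons (nat_lit 2) (nat_lit 0x3022031030003312121123330) (Net.cons (nat_lit 1) (nat_lit 0x1540451155105410500141400) Net.nil)))))))))))))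
noncomputable def Z1_6 : Net := (Net.cons (nat_lit 1) (nat_lit 0x1104005404050401150444100) (Net.cons (nat_lit 2) (nat_lit 0x201101011212230102011100) (Net.cons (nat_lit 4) (nat_lit 0xb0c05050207060400020200) (Net.cons (nat_lit 8) (nat_lit 0x9900300090009c000d0000) (Net.cons (nat_lit 16) (nat_lit 0xd065000048ab00000004) (Net.cons (nat_lit 32) (nat_lit 0x40000000014088230) (Net.cons (nat_lit 64) (nat_lit 0xf755bba70) (Net.cons (nat_lit 32) (nat_lit 0x100000000d7f18d24) (Net.cons (nat_lit 16) (nat_lit 0xe9ec0000d1b30000ce14) (Net.cons (nat_lit 8) (nat_lit 0x91007200510028006f0010) (Net.cons (nat_lit 4) (nat_lit 0x4020e05000e090f080c0f00) (Net.cons (nat_lit 2) (nat_lit 0x2000110012020100120322110) (Net.cons (nat_lit 1) (nat_lit 0x5555114040555011550541500) Net.nil)))))))))))))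
noncomputable def Z1_7 : Net := (Net.cons (nat_lit 1) (nat_lit 0x4004545445015055014501500) (Net.cons (nat_lit 2) (nat_lit 0x2100101132221120131001100) (Net.cons (nat_lit 4) (nat_lit 0x50607080601090202000202) (Net.cons (nat_lit 8) (nat_lit 0xc4000100df0050003e0000) (Net.cons (nat_lit 16) (nat_lit 0x167e0000aaba00000008) (Net.cons (nat_lit 32) (nat_lit 537793360) (Net.cons (nat_lit 64) (nat_lit 0xa34bf7352) (Net.cons (nat_lit 32) (nat_lit 2256222856) (Net.cons (nat_lit 16) (nat_lit 0xc3bd0000a89700009e18) (Net.cons (nat_lit 8) (nat_lit 0x9f0069006d004200710040) (Net.cons (nat_lit 4) (nat_lit 0x20e0d040f080906010a02) (Net.cons (nat_lit 2) (nat_lit 0x2120131230103110223123020) (Net.cons (nat_lit 1) (nat_lit 0x4010155544055044014501110) Net.nil)))))))))))))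
noncomputable def Z1_8 : Net := (Net.cons (nat_lit 1) (nat_lit 0x1010541141101105400441100) (Net.cons (nat_lit 2) (nat_lit 0x3201033101222321120102000) (Net.cons (nat_lit 4) (nat_lit 0xc04030005020c070b050304) (Net.cons (nat_lit 8) (nat_lit 0x8c0038004a000400410008) (Net.cons (nat_lit 16) (nat_lit 0x205d0000058500000004) (Net.cons (nat_lit 32) (nat_lit 0x30000000088215cc0) (Net.cons (nat_lit 64) (nat_lit 0xfdcb77de0) (Net.cons (nat_lit 32) (nat_lit 0xa00000000985ac96c) (Net.cons (nat_lit 16) (nat_lit 0x625d000084a1000061a4) (Net.cons (nat_lit 8) (nat_lit 0x4e0015006600550092008c) (Net.cons (nat_lit 4) (nat_lit 0x70e0f07020a040d06000504) (Net.cons (nat_lit 2) (nat_lit 0x2123013221123322210031120) (Net.cons (nat_lit 1) (nat_lit 0x410554555511145055051500) Net.nil)))))))))))))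
noncomputable def Z1_9 : Net := (Net.cons (nat_lit 1) (nat_lit 0x4404015110005450400105000) (Net.cons (nat_lit 2) (nat_lit 0x1232200002032110220001000) (Net.cons (nat_lit 4) (nat_lit 0xa0f000b01060105010a0300) (Net.cons (nat_lit 8) (nat_lit 0x1a00e3002b00dd00900004) (Net.cons (nat_lit 16) (nat_lit 0xa1180000450a00000002) (Net.cons (nat_lit 32) (nat_lit 1806402288) (Net.cons (nat_lit 64) (nat_lit 0x5fbfbebf4) (Net.cons (nat_lit 32) (nat_lit 0xe000000007f2e9af6) (Net.cons (nat_lit 16) (nat_lit 0x21920000458a00008a02) (Net.cons (nat_lit 8) (nat_lit 0x9a00eb002b005f00100004) (Net.cons (nat_lit 4) (nat_lit 0xa0e03030806010f090b0b00) (Net.cons (nat_lit 2) (nat_lit 0x3032202202032132230001000) (Net.cons (nat_lit 1) (nat_lit 0x4404015110005450400105000) Net.nil)))))))))))))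
noncomputable def Z1_10 : Net := (Net.cons (nat_lit 1) (nat_lit 0x4404015110005450400105000) (Net.cons (nat_lit 2) (nat_lit 0x1232200002032110220001000) (Net.cons (nat_lit 4) (nat_lit 0xa0f000b01060105010a0300) (Net.cons (nat_lit 8) (nat_lit 0x1a00e3002b00dd00900004) (Net.cons (nat_lit 16) (nat_lit 0xa1180000450a00000002) (Net.cons (nat_lit 32) (nat_lit 1806402288) (Net.cons (nat_lit 64) (nat_lit 0x5fbfbebf4) (Net.cons (nat_lit 32) (nat_lit 0xe000000007f2e9af6) (Net.cons (nat_lit 16) (nat_lit 0x21920000458a00008a02) (Net.cons (nat_lit 8) (nat_lit 0x9a00eb002b005f00100004) (Net.cons (nat_lit 4) (nat_lit 0xa0e03030806010f090b0b00) (Net.cons (nat_lit 2) (nat_lit 0x3032202202032132230001000) (Net.cons (nat_lit 1) (nat_lit 0x4404015110005450400105000) Net.nil)))))))))))))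
noncomputable def Z1 : List Net := [Z1_0, Z1_1, Z1_2, Z1_3, Z1_4, Z1_5, Z1_6, Z1_7, Z1_8, Z1_9, Z1_10]
noncomputable def ZW : List (List Nat) := [[(nat_lit 6), (nat_lit 6)],
  [(nat_lit 2), (nat_lit 3), (nat_lit 5), (nat_lit 2), (nat_lit 4), (nat_lit 5), (nat_lit 1), (nat_lit 5), (nat_lit 3), (nat_lit 1), (nat_lit 1), (nat_lit 1), (nat_lit 5)],
  [(nat_lit 7), (nat_lit 9), (nat_lit 8), (nat_lit 9), (nat_lit 9), (nat_lit 9), (nat_lit 7)],
  [(nat_lit 9), (nat_lit 7), (nat_lit 10), (nat_lit 10), (nat_lit 7)],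
  [(nat_lit 12), (nat_lit 13), (nat_lit 13), (nat_lit 11), (nat_lit 11), (nat_lit 11), (nat_lit 14), (nat_lit 11), (nat_lit 11), (nat_lit 14)],
  [(nat_lit 14), (nat_lit 12), (nat_lit 13), (nat_lit 11), (nat_lit 14), (nat_lit 14), (nat_lit 12), (nat_lit 14), (nat_lit 11), (nat_lit 11)],
  [(nat_lit 18), (nat_lit 15), (nat_lit 15), (nat_lit 15), (nat_lit 18), (nat_lit 16), (nat_lit 17)],
  [(nat_lit 16), (nat_lit 18), (nat_lit 16), (nat_lit 16), (nat_lit 16), (nat_lit 16)],
  [(nat_lit 19), (nat_lit 22), (nat_lit 20)],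
  [(nat_lit 20), (nat_lit 22), (nat_lit 19), (nat_lit 19), (nat_lit 21)],
  [(nat_lit 24), (nat_lit 25), (nat_lit 24)]]
noncomputable def ZC : List Lvl := [⟨(nat_lit 0), [[(nat_lit 1)],
  [(nat_lit 3)],
  [(nat_lit 5)]], (nat_lit 5)⟩,
  ⟨(nat_lit 1), [[(nat_lit 7)],
  [(nat_lit 9)]], (nat_lit 6)⟩,
  ⟨(nat_lit 2), [[(nat_lit 11)],
  [(nat_lit 13)]], (nat_lit 6)⟩,
  ⟨(nat_lit 3), [[(nat_lit 15)],
  [(nat_lit 17)]], (nat_lit 1)⟩,
  ⟨(nat_lit 4), [[(nat_lit 19)],
  [(nat_lit 21)]], (nat_lit 1)⟩,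
  ⟨(nat_lit 5), [[(nat_lit 23)],
  [(nat_lit 25)]], (nat_lit 2)⟩,
  ⟨(nat_lit 8), [[(nat_lit 27)]], (nat_lit 1)⟩]

end CF.Comp.HN
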