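import Cfsg.Agent.Dce.Defs

set_option autoImplicit false
set_option maxRecDepth 1000000
set_option maxHeartbeats 0
set_option Elab.async false

namespace CF.Comp.HN

open CF.Dce

noncomputable def aN : List (List Nat × List Nat) := [([(nat_lit 1)], [(nat_lit 2)]),
  ([(nat_lit 3), (nat_lit 1), (nat_lit 3), (nat_lit 1), (nat_lit 3), (nat_lit 3), (nat_lit 1), (nat_lit 4)], [(nat_lit 3), (nat_lit 1), (nat_lit 3), (nat_lit 1), (nat_lit 3), (nat_lit 3), (nat_lit 1), (nat_lit 4), (nat_lit 2), (nat_lit 2)])]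
noncomputable def aW : List (List (List Nat)) := [[[(nat_lit 4), (nat_lit 2), (nat_lit 4), (nat_lit 2), (nat_lit 4), (nat_lit 4), (nat_lit 4)],
  [(nat_lit 3), (nat_lit 3), (nat_lit 3), (nat_lit 1), (nat_lit 3), (nat_lit 1), (nat_lit 3), (nat_lit 1), (nat_lit 4), (nat_lit 2), (nat_lit 4), (nat_lit 2), (nat_lit 4), (nat_lit 4), (nat_lit 4)],
  [(nat_lit 3), (nat_lit 3), (nat_lit 3), (nat_lit 1), (nat_lit 3), (nat_lit 1), (nat_lit 3), (nat_lit 1), (nat_lit 4), (nat_lit 2), (nat_lit 4), (nat_lit 2), (nat_lit 4), (nat_lit 4), (nat_lit 4)],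
  [(nat_lit 3), (nat_lit 3), (nat_lit 3), (nat_lit 1), (nat_lit 3), (nat_lit 1), (nat_lit 3), (nat_lit 1)]],
 [[(nat_lit 3), (nat_lit 3), (nat_lit 3), (nat_lit 1), (nat_lit 3), (nat_lit 1), (nat_lit 3), (nat_lit 1), (nat_lit 4), (nat_lit 2), (nat_lit 4), (nat_lit 2), (nat_lit 4), (nat_lit 4), (nat_lit 4)],
  [(nat_lit 3), (nat_lit 3), (nat_lit 3), (nat_lit 1), (nat_lit 3), (nat_lit 1), (nat_lit 3), (nat_lit 1), (nat_lit 4), (nat_lit 2), (nat_lit 4), (nat_lit 2), (nat_lit 4), (nat_lit 4), (nat_lit 4)],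
  [(nat_lit 3), (nat_lit 3), (nat_lit 3), (nat_lit 1), (nat_lit 3), (nat_lit 1), (nat_lit 3), (nat_lit 1)],
  [(nat_lit 4), (nat_lit 2), (nat_lit 4), (nat_lit 2), (nat_lit 4), (nat_lit 4), (nat_lit 4)]],
 [[(nat_lit 3), (nat_lit 3), (nat_lit 3), (nat_lit 1), (nat_lit 3), (nat_lit 1), (nat_lit 3), (nat_lit 1), (nat_lit 4), (nat_lit 2), (nat_lit 4), (nat_lit 2), (nat_lit 4), (nat_lit 4), (nat_lit 4)],
  [(nat_lit 3), (nat_lit 3), (nat_lit 3), (nat_lit 1), (nat_lit 3), (nat_lit 1), (nat_lit 3), (nat_lit 1)],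
  [(nat_lit 4), (nat_lit 2), (nat_lit 4), (nat_lit 2), (nat_lit 4), (nat_lit 4), (nat_lit 4)],
  [(nat_lit 3), (nat_lit 3), (nat_lit 3), (nat_lit 1), (nat_lit 3), (nat_lit 1), (nat_lit 3), (nat_lit 1), (nat_lit 4), (nat_lit 2), (nat_lit 4), (nat_lit 2), (nat_lit 4), (nat_lit 4), (nat_lit 4)]],
 [[(nat_lit 3), (nat_lit 3), (nat_lit 3), (nat_lit 1), (nat_lit 3), (nat_lit 1), (nat_lit 3), (nat_lit 1)],
  [(nat_lit 4), (nat_lit 2), (nat_lit 4), (nat_lit 2), (nat_lit 4), (nat_lit 4), (nat_lit 4)],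
  [(nat_lit 3), (nat_lit 3), (nat_lit 3), (nat_lit 1), (nat_lit 3), (nat_lit 1), (nat_lit 3), (nat_lit 1), (nat_lit 4), (nat_lit 2), (nat_lit 4), (nat_lit 2), (nat_lit 4), (nat_lit 4), (nat_lit 4)],
  [(nat_lit 3), (nat_lit 3), (nat_lit 3), (nat_lit 1), (nat_lit 3), (nat_lit 1), (nat_lit 3), (nat_lit 1), (nat_lit 4), (nat_lit 2), (nat_lit 4), (nat_lit 2), (nat_lit 4), (nat_lit 4), (nat_lit 4)]],
 [[(nat_lit 3), (nat_lit 3), (nat_lit 3), (nat_lit 1), (nat_lit 3), (nat_lit 1), (nat_lit 3), (nat_lit 2), (nat_lit 4), (nat_lit 2), (nat_lit 4), (nat_lit 2), (nat_lit 4), (nat_lit 4), (nat_lit 4)],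
  [(nat_lit 3), (nat_lit 3), (nat_lit 3), (nat_lit 1), (nat_lit 3), (nat_lit 1), (nat_lit 3), (nat_lit 2), (nat_lit 4), (nat_lit 2), (nat_lit 4), (nat_lit 2), (nat_lit 4), (nat_lit 4), (nat_lit 4)],
  [(nat_lit 3), (nat_lit 3), (nat_lit 3), (nat_lit 1), (nat_lit 3), (nat_lit 1), (nat_lit 3)],
  [(nat_lit 2), (nat_lit 4), (nat_lit 2), (nat_lit 4), (nat_lit 2), (nat_lit 4), (nat_lit 4), (nat_lit 4)]],
 [[(nat_lit 3), (nat_lit 3), (nat_lit 3), (nat_lit 1), (nat_lit 3), (nat_lit 1), (nat_lit 3), (nat_lit 2), (nat_lit 4), (nat_lit 2), (nat_lit 4), (nat_lit 2), (nat_lit 4), (nat_lit 4), (nat_lit 4)],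
  [(nat_lit 3), (nat_lit 3), (nat_lit 3), (nat_lit 1), (nat_lit 3), (nat_lit 1), (nat_lit 3)],
  [(nat_lit 2), (nat_lit 4), (nat_lit 2), (nat_lit 4), (nat_lit 2), (nat_lit 4), (nat_lit 4), (nat_lit 4)],
  [(nat_lit 3), (nat_lit 3), (nat_lit 3), (nat_lit 1), (nat_lit 3), (nat_lit 1), (nat_lit 3), (nat_lit 2), (nat_lit 4), (nat_lit 2), (nat_lit 4), (nat_lit 2), (nat_lit 4), (nat_lit 4), (nat_lit 4)]],
 [[(nat_lit 3), (nat_lit 3), (nat_lit 3), (nat_lit 1), (nat_lit 3), (nat_lit 1), (nat_lit 3)],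
  [(nat_lit 2), (nat_lit 4), (nat_lit 2), (nat_lit 4), (nat_lit 2), (nat_lit 4), (nat_lit 4), (nat_lit 4)],
  [(nat_lit 3), (nat_lit 3), (nat_lit 3), (nat_lit 1), (nat_lit 3), (nat_lit 1), (nat_lit 3), (nat_lit 2), (nat_lit 4), (nat_lit 2), (nat_lit 4), (nat_lit 2), (nat_lit 4), (nat_lit 4), (nat_lit 4)],
  [(nat_lit 3), (nat_lit 3), (nat_lit 3), (nat_lit 1), (nat_lit 3), (nat_lit 1), (nat_lit 3), (nat_lit 2), (nat_lit 4), (nat_lit 2), (nat_lit 4), (nat_lit 2), (nat_lit 4), (nat_lit 4), (nat_lit 4)]],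
 [[(nat_lit 2), (nat_lit 4), (nat_lit 2), (nat_lit 4), (nat_lit 2), (nat_lit 4), (nat_lit 4), (nat_lit 4)],
  [(nat_lit 3), (nat_lit 3), (nat_lit 3), (nat_lit 1), (nat_lit 3), (nat_lit 1), (nat_lit 3), (nat_lit 2), (nat_lit 4), (nat_lit 2), (nat_lit 4), (nat_lit 2), (nat_lit 4), (nat_lit 4), (nat_lit 4)],
  [(nat_lit 3), (nat_lit 3), (nat_lit 3), (nat_lit 1), (nat_lit 3), (nat_lit 1), (nat_lit 3), (nat_lit 2), (nat_lit 4), (nat_lit 2), (nat_lit 4), (nat_lit 2), (nat_lit 4), (nat_lit 4), (nat_lit 4)],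
  [(nat_lit 3), (nat_lit 3), (nat_lit 3), (nat_lit 1), (nat_lit 3), (nat_lit 1), (nat_lit 3)]]]
noncomputable def acN : List (List (List Nat × Nat)) := [[([(nat_lit 6)], (nat_lit 15)), ([], (nat_lit 14))],
  [([(nat_lit 5), (nat_lit 3), (nat_lit 1), (nat_lit 3), (nat_lit 1), (nat_lit 3), (nat_lit 3), (nat_lit 1), (nat_lit 4), (nat_lit 2), (nat_lit 2)], (nat_lit 18))]]
noncomputable def acR : List (List (List Nat × Nat)) := [[([(nat_lit 6)], (nat_lit 19))],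
  [([(nat_lit 6), (nat_lit 3), (nat_lit 3), (nat_lit 3), (nat_lit 1), (nat_lit 3), (nat_lit 1), (nat_lit 3), (nat_lit 6)], (nat_lit 19))],
  [([(nat_lit 6), (nat_lit 3), (nat_lit 3), (nat_lit 3), (nat_lit 1), (nat_lit 3), (nat_lit 1), (nat_lit 3), (nat_lit 2), (nat_lit 4), (nat_lit 2), (nat_lit 4), (nat_lit 2), (nat_lit 4), (nat_lit 4), (nat_lit 4), (nat_lit 6), (nat_lit 3), (nat_lit 3), (nat_lit 3), (nat_lit 1), (nat_lit 3), (nat_lit 1), (nat_lit 3), (nat_lit 6)], (nat_lit 19))],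
  [([(nat_lit 6), (nat_lit 3), (nat_lit 3), (nat_lit 3), (nat_lit 1), (nat_lit 3), (nat_lit 1), (nat_lit 3), (nat_lit 2), (nat_lit 4), (nat_lit 2), (nat_lit 4), (nat_lit 2), (nat_lit 4), (nat_lit 4), (nat_lit 4), (nat_lit 6), (nat_lit 3), (nat_lit 3), (nat_lit 3), (nat_lit 1), (nat_lit 3), (nat_lit 1), (nat_lit 3), (nat_lit 2), (nat_lit 4), (nat_lit 2), (nat_lit 4), (nat_lit 2), (nat_lit 4), (nat_lit 4), (nat_lit 4), (nat_lit 6), (nat_lit 3), (nat_lit 3), (nat_lit 3), (nat_lit 1), (nat_lit 3), (nat_lit 1), (nat_lit 3), (nat_lit 6)], (nat_lit 19))],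
  [([(nat_lit 3), (nat_lit 3), (nat_lit 3), (nat_lit 1), (nat_lit 3), (nat_lit 1), (nat_lit 3), (nat_lit 2), (nat_lit 4), (nat_lit 2), (nat_lit 4), (nat_lit 2), (nat_lit 4), (nat_lit 4), (nat_lit 4)], (nat_lit 13)), ([(nat_lit 5), (nat_lit 3), (nat_lit 3), (nat_lit 3), (nat_lit 1), (nat_lit 3), (nat_lit 1), (nat_lit 3), (nat_lit 1)], (nat_lit 20)), ([(nat_lit 5), (nat_lit 3), (nat_lit 3), (nat_lit 3), (nat_lit 1), (nat_lit 3), (nat_lit 1), (nat_lit 3), (nat_lit 1), (nat_lit 5), (nat_lit 4), (nat_lit 2), (nat_lit 4), (nat_lit 2), (nat_lit 4), (nat_lit 4), (nat_lit 4)], (nat_lit 13)), ([(nat_lit 5), (nat_lit 3), (nat_lit 3), (nat_lit 3), (nat_lit 1), (nat_lit 3), (nat_lit 1), (nat_lit 3), (nat_lit 1)], (nat_lit 13)), ([], (nat_lit 13))],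
  [([(nat_lit 3), (nat_lit 3), (nat_lit 3), (nat_lit 1), (nat_lit 3), (nat_lit 1), (nat_lit 3), (nat_lit 2), (nat_lit 4), (nat_lit 2), (nat_lit 4), (nat_lit 2), (nat_lit 4), (nat_lit 4), (nat_lit 4)], (nat_lit 13)), ([(nat_lit 3), (nat_lit 3), (nat_lit 3), (nat_lit 1), (nat_lit 3), (nat_lit 1), (nat_lit 3), (nat_lit 2), (nat_lit 4), (nat_lit 2), (nat_lit 4), (nat_lit 2), (nat_lit 4), (nat_lit 4), (nat_lit 4), (nat_lit 6), (nat_lit 3), (nat_lit 3), (nat_lit 3), (nat_lit 1), (nat_lit 3), (nat_lit 1), (nat_lit 3)], (nat_lit 13)), ([(nat_lit 5), (nat_lit 3), (nat_lit 3), (nat_lit 3), (nat_lit 1), (nat_lit 3), (nat_lit 1), (nat_lit 3), (nat_lit 1), (nat_lit 4), (nat_lit 2), (nat_lit 4), (nat_lit 2), (nat_lit 4), (nat_lit 4), (nat_lit 4), (nat_lit 5), (nat_lit 3), (nat_lit 3), (nat_lit 3), (nat_lit 1), (nat_lit 3), (nat_lit 1), (nat_lit 3), (nat_lit 1)], (nat_lit 20)),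 ([(nat_lit 5), (nat_lit 3), (nat_lit 3), (nat_lit 3), (nat_lit 1), (nat_lit 3), (nat_lit 1), (nat_lit 3), (nat_lit 1), (nat_lit 4), (nat_lit 2), (nat_lit 4), (nat_lit 2), (nat_lit 4), (nat_lit 4), (nat_lit 4)], (nat_lit 13)), ([], (nat_lit 13))],
  [([(nat_lit 3), (nat_lit 3), (nat_lit 3), (nat_lit 1), (nat_lit 3), (nat_lit 1), (nat_lit 3), (nat_lit 5), (nat_lit 2), (nat_lit 4), (nat_lit 2), (nat_lit 4), (nat_lit 2), (nat_lit 4), (nat_lit 4), (nat_lit 4), (nat_lit 5), (nat_lit 3), (nat_lit 3), (nat_lit 3), (nat_lit 1), (nat_lit 3), (nat_lit 1), (nat_lit 3), (nat_lit 2), (nat_lit 4), (nat_lit 2), (nat_lit 4), (nat_lit 2), (nat_lit 4), (nat_lit 4), (nat_lit 4)], (nat_lit 13)), ([(nat_lit 3), (nat_lit 3), (nat_lit 3), (nat_lit 1), (nat_lit 3), (nat_lit 1), (nat_lit 3), (nat_lit 5), (nat_lit 2), (nat_lit 4), (nat_lit 2), (nat_lit 4), (nat_lit 2), (nat_lit 4), (nat_lit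 4), (nat_lit 4), (nat_lit 5), (nat_lit 5), (nat_lit 3), (nat_lit 3), (nat_lit 3), (nat_lit 1), (nat_lit 3), (nat_lit 1), (nat_lit 3), (nat_lit 1)], (nat_lit 20)), ([(nat_lit 3), (nat_lit 3), (nat_lit 3), (nat_lit 1), (nat_lit 3), (nat_lit 1), (nat_lit 3), (nat_lit 5), (nat_lit 2), (nat_lit 4), (nat_lit 2), (nat_lit 4), (nat_lit 2), (nat_lit 4), (nat_lit 4), (nat_lit 4)], (nat_lit 13)), ([(nat_lit 3), (nat_lit 3), (nat_lit 3), (nat_lit 1), (nat_lit 3), (nat_lit 1), (nat_lit 3)], (nat_lit 13)), ([], (nat_lit 13))],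
  [([(nat_lit 2), (nat_lit 4), (nat_lit 2), (nat_lit 4), (nat_lit 2), (nat_lit 4), (nat_lit 4), (nat_lit 4), (nat_lit 5), (nat_lit 3), (nat_lit 3), (nat_lit 3), (nat_lit 1), (nat_lit 3), (nat_lit 1), (nat_lit 3), (nat_lit 2), (nat_lit 4), (nat_lit 2), (nat_lit 4), (nat_lit 2), (nat_lit 4), (nat_lit 4), (nat_lit 4)], (nat_lit 13)), ([(nat_lit 2), (nat_lit 4), (nat_lit 2), (nat_lit 4), (nat_lit 2), (nat_lit 4), (nat_lit 4), (nat_lit 4), (nat_lit 5), (nat_lit 5), (nat_lit 3), (nat_lit 3), (nat_lit 3), (nat_lit 1), (nat_lit 3), (nat_lit 1), (nat_lit 3), (nat_lit 1)], (nat_lit 20)), ([(nat_lit 2), (nat_lit 4), (nat_lit 2), (nat_lit 4), (nat_lit 2), (nat_lit 4), (nat_lit 4), (nat_lit 4)], (nat_lit 13)), ([(nat_lit 5), (nat_lit 4), (nat_lit 2), (nat_lit 4), (nat_lit 2), (nat_lit 4), (nat_lit 4), (nat_lit 4)], (nat_lit 13)), ([], (nat_lit 13))]]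
noncomputable def bN : List (List Nat × List Nat) := [([(nat_lit 3)], [(nat_lit 3)]),
  ([(nat_lit 2), (nat_lit 3), (nat_lit 1)], [(nat_lit 2), (nat_lit 3), (nat_lit 1)])]
noncomputable def bW : List (List (List Nat)) := [[[(nat_lit 2)],
  [(nat_lit 2), (nat_lit 2)],
  [(nat_lit 2), (nat_lit 2), (nat_lit 2)]],
 [[(nat_lit 2), (nat_lit 2)],
  [(nat_lit 2), (nat_lit 2), (nat_lit 2)],
  [(nat_lit 2)]],
 [[(nat_lit 2), (nat_lit 2), (nat_lit 2)],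
  [(nat_lit 2)],
  [(nat_lit 2), (nat_lit 2)]],
 [[(nat_lit 5), (nat_lit 2), (nat_lit 2)],
  [(nat_lit 5), (nat_lit 2), (nat_lit 2)],
  [(nat_lit 5), (nat_lit 2), (nat_lit 2)]]]
noncomputable def SW : List (List Nat) := [[(nat_lit 1)],
  [(nat_lit 3)],
  [(nat_lit 5)],
  [(nat_lit 1), (nat_lit 1), (nat_lit 7)]]
noncomputable def RS : List (List Nat) := [[(nat_lit 7), (nat_lit 7)],
  [(nat_lit 3), (nat_lit 7), (nat_lit 4), (nat_lit 8)],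
  [(nat_lit 2), (nat_lit 3), (nat_lit 1), (nat_lit 7), (nat_lit 2), (nat_lit 4), (nat_lit 1), (nat_lit 8)],
  [(nat_lit 2), (nat_lit 2), (nat_lit 2), (nat_lit 7), (nat_lit 1), (nat_lit 2), (nat_lit 2), (nat_lit 7), (nat_lit 2), (nat_lit 2), (nat_lit 7)],
  [(nat_lit 5), (nat_lit 2), (nat_lit 2), (nat_lit 7), (nat_lit 5), (nat_lit 2), (nat_lit 2), (nat_lit 7), (nat_lit 5), (nat_lit 2), (nat_lit 2), (nat_lit 7)]]
noncomputable def cS : List (List (List Nat × Nat)) := [[([], (nat_lit 29)), ([(nat_lit 2)], (nat_lit 23)), ([(nat_lit 7), (nat_lit 7)], (nat_lit 24)), ([(nat_lit 7), (nat_lit 7), (nat_lit 7), (nat_lit 7)], (nat_lit 24)), ([], (nat_lit 21))],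
  [([(nat_lit 3), (nat_lit 1), (nat_lit 1), (nat_lit 4), (nat_lit 7), (nat_lit 3)], (nat_lit 26)), ([], (nat_lit 31))],
  [([(nat_lit 2), (nat_lit 3)], (nat_lit 29)), ([(nat_lit 2), (nat_lit 3), (nat_lit 2), (nat_lit 7), (nat_lit 1), (nat_lit 4), (nat_lit 2), (nat_lit 2)], (nat_lit 32)), ([(nat_lit 2), (nat_lit 3)], (nat_lit 23)), ([(nat_lit 2), (nat_lit 8), (nat_lit 3), (nat_lit 7)], (nat_lit 25)), ([(nat_lit 2), (nat_lit 8), (nat_lit 8), (nat_lit 3), (nat_lit 7)], (nat_lit 25)), ([(nat_lit 2)], (nat_lit 24)), ([], (nat_lit 30))],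
  [([], (nat_lit 23))],
  [([], (nat_lit 27))]]
noncomputable def bcR : List (List (List Nat × Nat)) := [[([(nat_lit 8), (nat_lit 1), (nat_lit 1), (nat_lit 1)], (nat_lit 7))],
  [([(nat_lit 8), (nat_lit 1), (nat_lit 8), (nat_lit 1), (nat_lit 1), (nat_lit 1)], (nat_lit 7))],
  [([], (nat_lit 7))],
  [([], (nat_lit 9))]]

end CF.Comp.HN
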